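import Groth.Agent.BGaST.Fn

/-!
An extension over the two-branched stack of the twisted functor gives trivialisations on the two branches.
-/

set_option autoImplicit false
set_option maxHeartbeats 1000000
set_option linter.style.haveILetI false
set_option linter.unusedSectionVars false
set_option backward.isDefEq.respectTransparency false
set_option backward.isDefEq.respectTransparency.types false
universe u

open CategoryTheory CategoryTheory.Limits MonoidalCategory CartesianMonoidalCategory AlgebraicGeometry AlgSt FibCat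
open Groth.Agent.AlgSt88
open scoped MonObj GrpObj

namespace Groth.Agent.BGaST

variable {S : Scheme.{u}} {R : Type u} [CommRing R] [IsDomain R] {π : R} (h : Spec (CommRingCat.of R) ⟶ S)
  {G : Over S} [GrpObj G]

/-- The object of the two-branched stack on an open of the curve. -/
noncomputable abbrev openPt (U : (ThetaS.STSch R π).left.Opens) :
    QuotObj Scheme.fppfPrecoverage (ThetaS.Gm R) (ThetaS.stAction R π) :=
  (quotMap Scheme.fppfPrecoverage (ThetaS.Gm R) (ThetaS.stAction R π)).obj
    ⟨openObj (ThetaS.STSch R π) U, ⟨openIncl (ThetaS.STSch R π) U⟩⟩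

/-- The object on the whole curve. -/
noncomputable abbrev wholePt : QuotObj Scheme.fppfPrecoverage (ThetaS.Gm R) (ThetaS.stAction R π) :=
  (quotMap Scheme.fppfPrecoverage (ThetaS.Gm R) (ThetaS.stAction R π)).obj ⟨ThetaS.STSch R π, ⟨𝟙 _⟩⟩

/-- The morphism of objects for an inclusion. -/
noncomputable abbrev openPtLE {U U' : (ThetaS.STSch R π).left.Opens} (e : U ≤ U') : openPt U ⟶ openPt U' :=
  (quotMap Scheme.fppfPrecoverage (ThetaS.Gm R) (ThetaS.stAction R π)).map
    (⟨openLE (ThetaS.STSch R π) e, congrArg ULift.up (openLE_incl _ e)⟩ :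
      (⟨openObj (ThetaS.STSch R π) U, ⟨openIncl _ U⟩⟩ : (ofSch (ThetaS.STSch R π)).obj) ⟶
        ⟨openObj (ThetaS.STSch R π) U', ⟨openIncl _ U'⟩⟩)

/-- The morphism of an open to the whole. -/
noncomputable abbrev openPtIncl (U : (ThetaS.STSch R π).left.Opens) : openPt U ⟶ wholePt (π := π) :=
  (quotMap Scheme.fppfPrecoverage (ThetaS.Gm R) (ThetaS.stAction R π)).map
    (⟨openIncl (ThetaS.STSch R π) U, congrArg ULift.up (Category.comp_id (openIncl (ThetaS.STSch R π) U))⟩ :
      (⟨openObj (ThetaS.STSch R π) U, ⟨openIncl _ U⟩⟩ : (ofSch (ThetaS.STSch R π)).obj) ⟶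
        ⟨ThetaS.STSch R π, ⟨𝟙 _⟩⟩)

theorem openPt_incl_le {U U' : (ThetaS.STSch R π).left.Opens} (e : U ≤ U') :
    openPtLE e ≫ openPtIncl U' = openPtIncl U := by
  refine ((quotMap Scheme.fppfPrecoverage (ThetaS.Gm R) (ThetaS.stAction R π)).map_comp _ _).symm.trans ?_
  exact congrArg _ (Stk.EltObj.hom_ext (openLE_incl _ e))

theorem openPt_preimage {U : (ThetaS.STSch R π).left.Opens} {b : Bool} (hU : U ≤ dOpen (brFn R π b)) :
    (openPt U).φ.left ⁻¹ᵁ dOpen (brFn R π b) = ⊤ := by
  rw [eq_top_iff]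
  intro y _
  show (ThetaS.stAction R π).act.left ((ThetaS.Gm R ◁ openIncl (ThetaS.STSch R π) U).left y) ∈ dOpen (brFn R π b)
  show (ThetaS.Gm R ◁ openIncl (ThetaS.STSch R π) U).left y ∈ (ThetaS.stAction R π).act.left ⁻¹ᵁ dOpen (brFn R π b)
  rw [act_preimage_dOpen b]
  show (snd (ThetaS.Gm R) (ThetaS.STSch R π)).left ((ThetaS.Gm R ◁ openIncl (ThetaS.STSch R π) U).left y) ∈
    dOpen (brFn R π b)
  have e : (snd (ThetaS.Gm R) (ThetaS.STSch R π)).left ((ThetaS.Gm R ◁ openIncl (ThetaS.STSch R π) U).left y) =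
      U.ι ((snd (ThetaS.Gm R) (openObj (ThetaS.STSch R π) U)).left y) :=
    congrArg (fun t => t.left y) (whiskerLeft_snd (ThetaS.Gm R) (openIncl (ThetaS.STSch R π) U))
  rw [e]
  exact hU ((snd (ThetaS.Gm R) (openObj (ThetaS.STSch R π) U)).left y).2

theorem missesNode_openPt {U : (ThetaS.STSch R π).left.Opens} (b : Bool) (hU : U ≤ dOpen (brFn R π b)) :
    ThetaS.MissesNode (openPt U) := by
  have := openPt_preimage hU
  rw [Scheme.preimage_basicOpen_top] at this
  unfold ThetaS.MissesNode
  cases b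
  · exact eq_top_iff.2 (this.ge.trans le_sup_left)
  · exact eq_top_iff.2 (this.ge.trans le_sup_right)

theorem brOpen_openPt {U : (ThetaS.STSch R π).left.Opens} (b : Bool) (hU : U ≤ dOpen (brFn R π b)) :
    brOpen (openPt U) b = ⊤ := by
  haveI := surjective_π (openPt U)
  rw [eq_top_iff]
  intro x _
  obtain ⟨y, rfl⟩ := (openPt U).π.left.surjective x
  exact (preimage_brOpen (openPt U) b).ge ((openPt_preimage hU).ge trivial)

/-- A branch of the curve. -/
noncomputable abbrev brU (R : Type u) [CommRing R] (π : R) (b : Bool) : (ThetaS.STSch R π).left.Opens :=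
  dOpen (brFn R π b)

/-- The overlap of the branches. -/
noncomputable abbrev midU (R : Type u) [CommRing R] (π : R) : (ThetaS.STSch R π).left.Opens :=
  brU R π false ⊓ brU R π true

theorem midU_le (b : Bool) : midU R π ≤ brU R π b := by
  cases b
  · exact inf_le_left
  · exact inf_le_right

/-- The overlap maps to the generic part. -/
noncomputable abbrev midToGen :
    (Over.map h).obj (openObj (ThetaS.STSch R π) (midU R π)) ⟶ genObj h π :=
  Over.homMk ((ThetaS.STSch R π).hom.resLE (genOpen R π) (midU R π) dOpen_inf.le) (by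
    show _ ≫ (genOpen R π).ι ≫ h = ((midU R π).ι ≫ (ThetaS.STSch R π).hom) ≫ h
    rw [Scheme.Hom.resLE_comp_ι_assoc, Category.assoc])

/-- An open of the curve as a scheme over the base. -/
noncomputable abbrev openS (U : (ThetaS.STSch R π).left.Opens) : Over S :=
  (Over.map h).obj (openObj (ThetaS.STSch R π) U)

theorem exists_trivialisations {D : Over S} (d : IsoNat97.Doubling (genIncl h π) D) (hG : IsAffineHom G.hom)
    (g₀ : genObj h π ⟶ G) {x : (BGc G).obj} (hx : x.base = D) (m : Bool → (trivObj G (baseObj h) ⟶ x))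
    (hm : ∀ b, (BGc G).p.IsHomLift (d.c b) (m b))
    (hrel : tr g₀ ≫ trivMap G (genIncl h π) ≫ m true = trivMap G (genIncl h π) ≫ m false)
    (hlift : ∀ sq : LiftSq.Sq (ThetaS.stIncl Scheme.fppfPrecoverage R π h) (FibCat.toSelf (BGc G)), sq.HasLift) :
    ∃ (P : (BGc G).obj) (hP : P.base = (Over.map h).obj (ThetaS.STSch R π))
      (e : ∀ b, trivObj G (openS h (brU R π b)) ⟶ P),
      (∀ b, (e b).base ≫ eqToHom hP = (Over.map h).map (openIncl (ThetaS.STSch R π) (brU R π b))) ∧
      trivMap G ((Over.map h).map (openLE (ThetaS.STSch R π) (midU_le false))) ≫ e false =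
        tr (midToGen h ≫ g₀) ≫
          trivMap G ((Over.map h).map (openLE (ThetaS.STSch R π) (midU_le true))) ≫ e true := by
  subst hx
  have hfg := isFibGrpd_quotSt (K := Scheme.fppfPrecoverage) (trivAction G)
  let cl := classify hfg x (rfl : (BGc G).p.obj x = x.base)
  obtain ⟨ε, hε⟩ := classify_mk_id hfg x (rfl : (BGc G).p.obj x = x.base)
  let φ : ∀ q : Over x.base, cl.obj q ⟶ x := fun q =>
    cl.map (Over.homMk q.hom (Category.comp_id _) : q ⟶ Over.mk (𝟙 x.base)) ≫ ε.hom
  have hφb : ∀ q : Over x.base, (φ q).base = eqToHom (cl.w_obj q) ≫ q.hom := by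
    intro q
    have h1 : (cl.map (Over.homMk q.hom (Category.comp_id _) : q ⟶ Over.mk (𝟙 x.base))).base =
        eqToHom (cl.w_obj q) ≫ q.hom ≫ eqToHom (cl.w_obj (Over.mk (𝟙 x.base))).symm := p_map_eq cl _
    have h2 : ε.hom.base = eqToHom (cl.w_obj (Over.mk (𝟙 x.base))) ≫ 𝟙 x.base := by
      haveI : (BGc G).p.IsHomLift (𝟙 x.base) ε.hom := hε
      exact (IsHomLift.fac' (BGc G).p (𝟙 x.base) ε.hom).trans (by simp; rfl)
    change (cl.map (Over.homMk q.hom (Category.comp_id _) : q ⟶ Over.mk (𝟙 x.base))).base ≫ ε.hom.base = _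
    rw [h1, h2]
    simp
  have hφn : ∀ {q q' : Over x.base} (t : q ⟶ q'), cl.map t ≫ φ q' = φ q := by
    intro q q' t
    change cl.map t ≫ cl.map _ ≫ ε.hom = cl.map _ ≫ ε.hom
    rw [← Category.assoc, ← cl.map_comp]
    congr 2
    exact Over.OverMorphism.ext (Over.w t)
  let F : ThetaS.stPunc Scheme.fppfPrecoverage R π h ⥤ᵇ BGc G :=
    BasedFunctor.comp (chi h d) (BasedFunctor.comp (toOverCat x.base) cl)
  let bot : ThetaS.ST Scheme.fppfPrecoverage R π h ⥤ᵇ selfOver (Over S) := FibCat.toSelf _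
  let sq : LiftSq.Sq (ThetaS.stIncl Scheme.fppfPrecoverage R π h) (FibCat.toSelf (BGc G)) :=
    { top := F
      bot := bot
      iso := BasedNatIso.mkNatIso
        (NatIso.ofComponents (fun a => eqToIso (F.w_obj a).symm) (fun {a a'} f => by
          change (Over.map h).map f.hom.base ≫ eqToHom (F.w_obj a').symm =
            eqToHom (F.w_obj a).symm ≫ (F.map f).base
          rw [show (F.map f).base = _ from p_map_eq F f, eqToHom_trans_assoc, eqToHom_refl, Category.id_comp]
          rfl))
        (fun a => IsHomLift.of_fac' _ _ _ rfl (F.w_obj a) (by simp; rfl)) }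
  obtain ⟨l⟩ := hlift sq
  let a : Bool → (ThetaS.stPunc Scheme.fppfPrecoverage R π h).obj := fun b =>
    ⟨openPt (brU R π b), missesNode_openPt b le_rfl⟩
  let a₂ : (ThetaS.stPunc Scheme.fppfPrecoverage R π h).obj :=
    ⟨openPt (midU R π), missesNode_openPt false (midU_le false)⟩
  let la : ∀ b, a₂ ⟶ a b := fun b => ⟨openPtLE (midU_le b)⟩
  let q : (ThetaS.stPunc Scheme.fppfPrecoverage R π h).obj → Over x.base :=
    fun z => (toOverCat x.base).obj ((chi h d).obj z)
  have hFn : ∀ b, F.map (la b) ≫ φ (q (a b)) = φ (q a₂) := fun b => hφn _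
  have hmb : ∀ b, (m b).base = d.c b := fun b => by
    haveI := hm b
    exact (IsHomLift.fac' (BGc G).p (d.c b) (m b)).trans (by simp)
  -- the comparisons of the top with the trivial torsors
  have hχ : ∀ b, ∃ χ : trivObj G (openS h (brU R π b)) ⟶ F.obj (a b),
      χ.base = eqToHom (F.w_obj (a b)).symm ∧
        χ ≫ φ (q (a b)) = trivMap G (toC h (openObj (ThetaS.STSch R π) (brU R π b))) ≫ m b := by
    intro b
    refine fg_exists_fac hfg (φ (q (a b))) _ _ ?_
    change eqToHom (F.w_obj (a b)).symm ≫ (φ (q (a b))).base =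
      toC h (openObj (ThetaS.STSch R π) (brU R π b)) ≫ (m b).base
    rw [hφb, hmb]
    change eqToHom _ ≫ eqToHom _ ≫ chiPt (openPt (brU R π b)) h d (a b).property = _
    rw [eqToHom_trans_assoc, eqToHom_refl, Category.id_comp, chiPt_eq _ h d _ b (brOpen_openPt b le_rfl)]
    rfl
  choose χ hχb hχc using hχ
  let t : ∀ b, openS h (midU R π) ⟶ openS h (brU R π b) := fun b =>
    (Over.map h).map (openLE (ThetaS.STSch R π) (midU_le b))
  have hχ' : ∀ b, ∃ χ' : trivObj G (openS h (midU R π)) ⟶ F.obj a₂,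
      χ'.base = eqToHom (F.w_obj a₂).symm ∧ χ' ≫ F.map (la b) = trivMap G (t b) ≫ χ b := by
    intro b
    refine fg_exists_fac hfg (F.map (la b)) _ _ ?_
    change eqToHom (F.w_obj a₂).symm ≫ (F.map (la b)).base = t b ≫ (χ b).base
    rw [show (F.map (la b)).base = _ from p_map_eq F (la b), eqToHom_trans_assoc, eqToHom_refl, Category.id_comp,
      hχb b]
    rfl
  choose χ' hχ'b hχ'c using hχ'
  have hkey : χ' false = tr (midToGen h ≫ g₀) ≫ χ' true := by
    refine fg_hom_ext hfg (φ (q a₂)) ?_ ?_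
    · change (χ' false).base = (tr (midToGen h ≫ g₀)).base ≫ (χ' true).base
      rw [hχ'b, hχ'b, tr_base]
      exact (Category.id_comp _).symm
    · have hcomp : ∀ b, χ' b ≫ φ (q a₂) =
          trivMap G (midToGen h) ≫ trivMap G (genIncl h π) ≫ m b := by
        intro b
        rw [← hFn b, ← Category.assoc, hχ'c b, Category.assoc, hχc b, ← Category.assoc, ← trivMap_comp,
          ← Category.assoc, ← trivMap_comp]
        congr 2
        apply Over.OverMorphism.ext
        change (ThetaS.STSch R π).left.homOfLE (midU_le b) ≫ (brU R π b).ι ≫ (ThetaS.STSch R π).hom =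
          (ThetaS.STSch R π).hom.resLE (genOpen R π) (midU R π) dOpen_inf.le ≫ (genOpen R π).ι
        rw [Scheme.homOfLE_ι_assoc, Scheme.Hom.resLE_comp_ι]
      rw [Category.assoc, hcomp false, hcomp true, ← hrel, ← Category.assoc, trivMap_tr, Category.assoc]
  refine ⟨l.fn.obj wholePt, l.fn.w_obj wholePt, fun b =>
    χ b ≫ l.isoTop.inv.toNatTrans.app (a b) ≫ l.fn.map (openPtIncl (brU R π b)), fun b => ?_, ?_⟩
  · change ((χ b).base ≫ (l.isoTop.inv.toNatTrans.app (a b)).base ≫ (l.fn.map (openPtIncl (brU R π b))).base) ≫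
      eqToHom _ = _
    have e1 : (l.isoTop.inv.toNatTrans.app (a b)).base =
        eqToHom (F.w_obj (a b)) ≫ eqToHom (l.fn.w_obj (openPt (brU R π b))).symm := by
      haveI := l.isoTop.inv.isHomLift' (a b)
      refine (IsHomLift.fac' (BGc G).p (𝟙 ((ThetaS.stPunc Scheme.fppfPrecoverage R π h).p.obj (a b)))
        (l.isoTop.inv.toNatTrans.app (a b))).trans ?_
      simp
    rw [hχb, e1, show (l.fn.map (openPtIncl (brU R π b))).base = _ from p_map_eq l.fn (openPtIncl (brU R π b))]
    simp
    rfl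
  · have hn : ∀ b, trivMap G (t b) ≫ χ b ≫ l.isoTop.inv.toNatTrans.app (a b) ≫ l.fn.map (openPtIncl (brU R π b)) =
        χ' b ≫ l.isoTop.inv.toNatTrans.app a₂ ≫ l.fn.map (openPtIncl (midU R π)) := by
      intro b
      rw [← reassoc_of% (hχ'c b),
        show F.map (la b) ≫ l.isoTop.inv.toNatTrans.app (a b) ≫ l.fn.map (openPtIncl (brU R π b)) =
          l.isoTop.inv.toNatTrans.app a₂ ≫ l.fn.map (openPtLE (midU_le b)) ≫ l.fn.map (openPtIncl (brU R π b)) from
          (Category.assoc _ _ _).symm.trans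
            ((congrArg (· ≫ l.fn.map (openPtIncl (brU R π b))) (l.isoTop.inv.toNatTrans.naturality (la b))).trans
              (Category.assoc _ _ _)),
        ← l.fn.map_comp, openPt_incl_le]
    change trivMap G (t false) ≫ χ false ≫ _ = tr (midToGen h ≫ g₀) ≫ trivMap G (t true) ≫ χ true ≫ _
    rw [hn false, hn true, hkey, Category.assoc]

end Groth.Agent.BGaST
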