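import Groth.Agent.BGaST.Node
import Groth.Agent.RedPts82.Bridge
import Groth.Agent.RedPts82.RankOneHom

/-!
Points of the additive group on open subschemes, as sections.
-/

set_option autoImplicit false
set_option maxHeartbeats 1000000
set_option linter.style.haveILetI false
set_option linter.unusedSectionVars false
set_option backward.isDefEq.respectTransparency false
set_option backward.isDefEq.respectTransparency.types false
universe u

open CategoryTheory CategoryTheory.Limits MonoidalCategory CartesianMonoidalCategory AlgebraicGeometry AlgSt Opposite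
open scoped MonObj GrpObj

namespace Groth.Agent.BGaST

variable {X : Scheme.{u}}

theorem res_res' {U V W : X.Opens} (i : U ⟶ V) (j : V ⟶ W) (x : Γ(X, W)) :
    X.presheaf.map i.op (X.presheaf.map j.op x) = X.presheaf.map (i ≫ j).op x := by
  rw [op_comp, Functor.map_comp]
  rfl

theorem topIso_hom_ι (U : X.Opens) (x : Γ(X, ⊤)) :
    U.topIso.hom (U.ι.appTop x) = X.presheaf.map (homOfLE (le_top : U ≤ ⊤)).op x := by
  simp only [Scheme.Opens.ι_appTop, Scheme.Opens.topIso_hom]
  exact res_res' _ _ _

theorem topIso_hom_homOfLE {U V : X.Opens} (e : U ≤ V) (y : Γ(V.toScheme, ⊤)) :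
    U.topIso.hom ((X.homOfLE e).appTop y) = X.presheaf.map (homOfLE e).op (V.topIso.hom y) := by
  rw [Scheme.homOfLE_appTop]
  simp only [Scheme.Opens.topIso_hom]
  refine (res_res' _ _ _).trans (Eq.trans ?_ (res_res' (homOfLE e) (eqToHom _) y).symm)
  rfl

theorem isUnit_res (f : Γ(X, ⊤)) {U : X.Opens} (hU : U ≤ X.basicOpen f) :
    IsUnit (X.presheaf.map (homOfLE (le_top : U ≤ ⊤)).op f) := by
  have := (RingedSpace.isUnit_res_basicOpen X.toRingedSpace f).map (X.presheaf.map (homOfLE hU).op).hom
  exact (congrArg IsUnit (res_res' (homOfLE hU) (homOfLE (le_top : X.basicOpen f ≤ ⊤)) f)).mp this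

variable {S : Scheme.{u}}

/-- The open subscheme as an object over the base. -/
noncomputable abbrev openObj (W : Over S) (U : W.left.Opens) : Over S := Over.mk (U.ι ≫ W.hom)

/-- Its inclusion. -/
noncomputable abbrev openIncl (W : Over S) (U : W.left.Opens) : openObj W U ⟶ W := Over.homMk U.ι rfl

/-- The inclusion of a smaller open. -/
noncomputable abbrev openLE (W : Over S) {U V : W.left.Opens} (e : U ≤ V) : openObj W U ⟶ openObj W V :=
  Over.homMk (W.left.homOfLE e) (by simp)

theorem openLE_incl (W : Over S) {U V : W.left.Opens} (e : U ≤ V) : openLE W e ≫ openIncl W V = openIncl W U :=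
  Over.OverMorphism.ext (W.left.homOfLE_ι e)

/-- The coordinate of a point of the additive group on an open, as a section. -/
noncomputable def sec {W : Over S} {U : W.left.Opens} (x : openObj W U ⟶ Red.Ga S) : Γ(W.left, U) :=
  U.topIso.hom (Red.gaFn x)

theorem sec_mul {W : Over S} {U : W.left.Opens} (x y : openObj W U ⟶ Red.Ga S) : sec (x * y) = sec x + sec y := by
  rw [sec, sec, sec, RedPts82.gaFn_mul]
  exact map_add U.topIso.hom.hom _ _

theorem sec_openLE {W : Over S} {U V : W.left.Opens} (e : U ≤ V) (x : openObj W V ⟶ Red.Ga S) :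
    sec (openLE W e ≫ x) = W.left.presheaf.map (homOfLE e).op (sec x) := by
  rw [sec, sec, RedPts82.gaFn_comp]
  exact topIso_hom_homOfLE e _

end Groth.Agent.BGaST
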