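import Groth.Agent.BGaST.Triv
import Groth.Agent.Theta44.ThetaAffine
import Mathlib.AlgebraicGeometry.Morphisms.UniversallyOpen

/-!
The two open branches of an object of the two-branched stack and the map of the punctured stack to the base
doubled along the generic point.
-/

set_option autoImplicit false
set_option maxHeartbeats 1000000
set_option linter.style.haveILetI false
set_option linter.unusedSectionVars false
set_option backward.isDefEq.respectTransparency false
set_option backward.isDefEq.respectTransparency.types false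
universe u

open CategoryTheory CategoryTheory.Limits MonoidalCategory CartesianMonoidalCategory AlgebraicGeometry AlgSt FibCat
open Groth.Agent.AlgSt88
open scoped TensorProduct

namespace Groth.Agent.BGaST

variable {R : Type u} [CommRing R] [IsDomain R] {π : R}

/-- The open part of the two-branched curve where a function is invertible. -/
noncomputable abbrev dOpen (c : ThetaS.STRing R π) : (ThetaS.STSch R π).left.Opens :=
  (ThetaS.STSch R π).left.basicOpen (ThetaS.stFn c)

theorem act_preimage_dOpen (b : Bool) :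
    (ThetaS.stAction R π).act.left ⁻¹ᵁ dOpen (bif b then ThetaS.tFn R π else ThetaS.sFn R π) =
      (snd (ThetaS.Gm R) (ThetaS.STSch R π)).left ⁻¹ᵁ dOpen (bif b then ThetaS.tFn R π else ThetaS.sFn R π) := by
  obtain ⟨ψ, hψ, hs, ht⟩ := Theta44.univPt_stAction (R := R) π
  let c := bif b then ThetaS.tFn R π else ThetaS.sFn R π
  obtain ⟨v, hv, hvc⟩ : ∃ v, IsUnit v ∧ ψ c = v * (c ⊗ₜ[R] 1) := by
    cases b
    · exact ⟨_, (Theta44.isUnit_zPow 1).map _, hs⟩
    · exact ⟨_, (Theta44.isUnit_zPow (-1)).map _, ht⟩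
  haveI : IsIso (Theta44.univPt R (ThetaS.STRing R π)).left :=
    inferInstanceAs (IsIso ((Over.forget _).map (Theta44.univPt R (ThetaS.STRing R π))))
  change (ThetaS.stAction R π).act.left ⁻¹ᵁ (ThetaS.STSch R π).left.basicOpen (ThetaS.stFn c) =
    (snd (ThetaS.Gm R) (ThetaS.STSch R π)).left ⁻¹ᵁ (ThetaS.STSch R π).left.basicOpen (ThetaS.stFn c)
  rw [Scheme.preimage_basicOpen_top, Scheme.preimage_basicOpen_top]
  have hi : Function.Injective fun U : (ThetaS.Gm R ⊗ ThetaS.STSch R π).left.Opens =>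
      (Theta44.univPt R (ThetaS.STRing R π)).left ⁻¹ᵁ U := by
    intro U U' hUU
    ext x
    obtain ⟨y, rfl⟩ := (Theta44.univPt R (ThetaS.STRing R π)).left.surjective x
    exact Iff.of_eq (congrArg (fun W => y ∈ W) hUU)
  apply hi
  show (Theta44.univPt R (ThetaS.STRing R π)).left ⁻¹ᵁ _ = (Theta44.univPt R (ThetaS.STRing R π)).left ⁻¹ᵁ _
  have h1 : (Theta44.univPt R (ThetaS.STRing R π)).left.appTop
      ((ThetaS.stAction R π).act.left.appTop (ThetaS.stFn c)) = Theta44.fnOf (R := R) _ (ψ c) := by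
    rw [← Theta44.pt_appTop (R := R) (B := ThetaS.STRing R π) (K := ThetaS.STRing R π ⊗[R] ThetaS.Lau R) ψ c, ← hψ]
    rfl
  have h2 : (Theta44.univPt R (ThetaS.STRing R π)).left.appTop
      ((snd (ThetaS.Gm R) (ThetaS.STSch R π)).left.appTop (ThetaS.stFn c)) =
      Theta44.fnOf (R := R) _ (c ⊗ₜ[R] (1 : ThetaS.Lau R)) := by
    rw [← Algebra.TensorProduct.includeLeft_apply (R := R) (S := R), ← Theta44.pt_appTop,
      show CoactBr.pt (Algebra.TensorProduct.includeLeft : ThetaS.STRing R π →ₐ[R] _) =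
        Theta44.univPt R (ThetaS.STRing R π) ≫ snd (ThetaS.Gm R) (ThetaS.STSch R π) from (lift_snd _ _).symm]
    rfl
  rw [Scheme.preimage_basicOpen_top, Scheme.preimage_basicOpen_top, h1, h2, hvc]
  simp only [Theta44.fnOf, map_mul]
  have hu : IsUnit (Theta44.fnOf (R := R) _ v) :=
    hv.map (Scheme.ΓSpecIso (CommRingCat.of (ThetaS.STRing R π ⊗[R] ThetaS.Lau R))).inv.hom
  rw [Scheme.basicOpen_mul]
  erw [Scheme.basicOpen_of_isUnit (CoactBr.sp R (ThetaS.STRing R π ⊗[R] ThetaS.Lau R)).left hu]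
  rw [top_inf_eq]

/-- The branch function. -/
noncomputable abbrev brFn (R : Type u) [CommRing R] (π : R) (b : Bool) : ThetaS.STRing R π :=
  bif b then ThetaS.tFn R π else ThetaS.sFn R π

variable (A : QuotObj Scheme.fppfPrecoverage (ThetaS.Gm R) (ThetaS.stAction R π))

theorem isOpenMap_π : IsOpenMap A.π.left := by
  haveI := flat_π (Theta44.flat_gm R) A
  haveI := lfp_π (Theta44.lfp_gm R) A
  exact A.π.left.isOpenMap

/-- The branch of the base of an object. -/
noncomputable def brOpen (b : Bool) : A.base.left.Opens :=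
  ⟨A.π.left '' (A.φ.left ⁻¹ᵁ dOpen (brFn R π b) : Set A.P.left), isOpenMap_π A _ (A.φ.left ⁻¹ᵁ dOpen (brFn R π b)).2⟩

theorem preimage_brOpen (b : Bool) : A.π.left ⁻¹ᵁ brOpen A b = A.φ.left ⁻¹ᵁ dOpen (brFn R π b) := by
  ext y
  refine ⟨?_, fun hy => ⟨y, hy, rfl⟩⟩
  rintro ⟨y', hy', e⟩
  have sq : IsPullback A.act.act.left (snd (ThetaS.Gm R) A.P).left A.π.left A.π.left := A.cart.map (Over.forget _)
  obtain ⟨z₀, hz1, hz2⟩ := Scheme.Pullback.exists_preimage_pullback y' y e
  obtain ⟨z, rfl⟩ := sq.isoPullback.hom.surjective z₀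
  rw [← Scheme.Hom.comp_apply, sq.isoPullback_hom_fst] at hz1
  rw [← Scheme.Hom.comp_apply, sq.isoPullback_hom_snd] at hz2
  let w := (ThetaS.Gm R ◁ A.φ).left z
  have e1 : (ThetaS.stAction R π).act.left w = A.φ.left y' := by
    rw [← hz1]
    exact (congrArg (fun t => t.left z) A.eqv).symm
  have e2 : (snd (ThetaS.Gm R) (ThetaS.STSch R π)).left w = A.φ.left y := by
    rw [← hz2]
    exact congrArg (fun t => t.left z) (whiskerLeft_snd (ThetaS.Gm R) A.φ)
  have hw : w ∈ (ThetaS.stAction R π).act.left ⁻¹ᵁ dOpen (brFn R π b) := by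
    show (ThetaS.stAction R π).act.left w ∈ dOpen (brFn R π b)
    rw [e1]
    exact hy'
  rw [act_preimage_dOpen b] at hw
  show A.φ.left y ∈ dOpen (brFn R π b)
  rw [← e2]
  exact hw

theorem brOpen_map {A A' : QuotObj Scheme.fppfPrecoverage (ThetaS.Gm R) (ThetaS.stAction R π)} (m : A' ⟶ A)
    (b : Bool) : m.base.left ⁻¹ᵁ brOpen A b = brOpen A' b := by
  haveI := surjective_π A'
  ext x
  obtain ⟨y, rfl⟩ := A'.π.left.surjective x
  have e : m.base.left (A'.π.left y) = A.π.left (m.top.left y) :=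
    (congrArg (fun t => t.left y) m.cart.w).symm
  have e' : A.φ.left (m.top.left y) = A'.φ.left y := congrArg (fun t => t.left y) m.wφ
  show m.base.left (A'.π.left y) ∈ brOpen A b ↔ A'.π.left y ∈ brOpen A' b
  rw [e]
  show m.top.left y ∈ A.π.left ⁻¹ᵁ brOpen A b ↔ y ∈ A'.π.left ⁻¹ᵁ brOpen A' b
  rw [preimage_brOpen, preimage_brOpen]
  show A.φ.left (m.top.left y) ∈ dOpen (brFn R π b) ↔ A'.φ.left y ∈ dOpen (brFn R π b)
  rw [e']

theorem brOpen_cover (hA : ThetaS.MissesNode A) : brOpen A false ⊔ brOpen A true = ⊤ := by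
  haveI := surjective_π A
  rw [eq_top_iff]
  intro x _
  obtain ⟨y, rfl⟩ := A.π.left.surjective x
  show y ∈ A.π.left ⁻¹ᵁ (brOpen A false ⊔ brOpen A true)
  rw [Scheme.Hom.preimage_sup, preimage_brOpen, preimage_brOpen, Scheme.preimage_basicOpen_top,
    Scheme.preimage_basicOpen_top]
  exact hA.ge trivial

/-- The open part of the base where the parameter is invertible. -/
noncomputable abbrev genOpen (R : Type u) [CommRing R] (π : R) : (Spec (CommRingCat.of R)).Opens :=
  (Spec (CommRingCat.of R)).basicOpen ((Scheme.ΓSpecIso (CommRingCat.of R)).inv π)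

theorem dOpen_inf : dOpen (ThetaS.sFn R π) ⊓ dOpen (ThetaS.tFn R π) =
    (ThetaS.STSch R π).hom ⁻¹ᵁ genOpen R π := by
  rw [Scheme.preimage_basicOpen_top, ← Scheme.basicOpen_mul]
  congr 1
  refine (map_mul (Scheme.ΓSpecIso (CommRingCat.of (ThetaS.STRing R π))).inv.hom _ _).symm.trans ?_
  rw [ThetaS.sFn_mul_tFn]
  exact congrArg (fun t => t π) (Scheme.ΓSpecIso_inv_naturality (CommRingCat.ofHom (algebraMap R (ThetaS.STRing R π))))

theorem brOpen_inf : brOpen A false ⊓ brOpen A true ≤ A.base.hom ⁻¹ᵁ genOpen R π := by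
  haveI := surjective_π A
  intro x hx
  obtain ⟨y, rfl⟩ := A.π.left.surjective x
  have h1 : A.φ.left y ∈ dOpen (ThetaS.sFn R π) ⊓ dOpen (ThetaS.tFn R π) :=
    ⟨(preimage_brOpen A false).le hx.1, (preimage_brOpen A true).le hx.2⟩
  rw [dOpen_inf] at h1
  show A.base.hom (A.π.left y) ∈ genOpen R π
  rw [← Scheme.Hom.comp_apply, Over.w A.π, ← Over.w A.φ]
  exact h1

section Glue

variable {S : Scheme.{u}} {O C D : Over S} {o : O ⟶ C} [IsOpenImmersion o.left]

/-- Two opens whose overlap maps into `O` give a point of the doubled object. -/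
theorem exists_glue (d : IsoNat97.Doubling o D) {T : Over S} (g : T ⟶ C) (U : Bool → T.left.Opens)
    (hU : U false ⊔ U true = ⊤) (hO : ∀ x ∈ U false ⊓ U true, g.left x ∈ Set.range o.left) :
    ∃ c : T ⟶ D, ∀ b, (U b).ι ≫ c.left = (U b).ι ≫ g.left ≫ (d.c b).left := by
  let 𝒰 : T.left.OpenCover :=
    Scheme.Cover.mkOfCovers (P := @IsOpenImmersion) Bool (fun b => (U b).toScheme) (fun b => (U b).ι) (fun x => by
      rcases (TopologicalSpace.Opens.mem_sup.1 (hU.ge (trivial : x ∈ (⊤ : T.left.Opens)))) with h | h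
      · exact ⟨false, ⟨x, h⟩, rfl⟩
      · exact ⟨true, ⟨x, h⟩, rfl⟩) (fun b => inferInstance)
  have key : ∀ {W : Scheme.{u}} (v : W ⟶ T.left), (∀ w, v w ∈ U false ⊓ U true) →
      v ≫ g.left ≫ (d.c false).left = v ≫ g.left ≫ (d.c true).left := by
    intro W v hv
    have hr : Set.range (v ≫ g.left) ⊆ Set.range o.left := by
      rintro _ ⟨w, rfl⟩
      exact hO _ (hv w)
    have e : IsOpenImmersion.lift o.left (v ≫ g.left) hr ≫ o.left = v ≫ g.left := IsOpenImmersion.lift_fac _ _ _
    rw [← Category.assoc, ← e, Category.assoc]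
    conv_rhs => rw [← Category.assoc, ← e, Category.assoc]
    exact congrArg (_ ≫ ·) (congrArg CommaMorphism.left d.agree)
  have hf : ∀ b b', pullback.fst (𝒰.f b) (𝒰.f b') ≫ (U b).ι ≫ g.left ≫ (d.c b).left =
      pullback.snd (𝒰.f b) (𝒰.f b') ≫ (U b').ι ≫ g.left ≫ (d.c b').left := by
    intro b b'
    have hc : pullback.fst (U b).ι (U b').ι ≫ (U b).ι = pullback.snd (U b).ι (U b').ι ≫ (U b').ι := pullback.condition
    have hmem : ∀ w, (pullback.fst (U b).ι (U b').ι ≫ (U b).ι) w ∈ U b ⊓ U b' := fun w =>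
      ⟨(pullback.fst (U b).ι (U b').ι w).2, by rw [hc]; exact (pullback.snd (U b).ι (U b').ι w).2⟩
    change pullback.fst (U b).ι (U b').ι ≫ (U b).ι ≫ g.left ≫ (d.c b).left =
      pullback.snd (U b).ι (U b').ι ≫ (U b').ι ≫ g.left ≫ (d.c b').left
    rw [← Category.assoc (pullback.snd _ _), ← hc, Category.assoc]
    cases b <;> cases b'
    · rfl
    · exact ((Category.assoc _ _ _).symm.trans (key _ hmem)).trans (Category.assoc _ _ _)
    · exact ((Category.assoc _ _ _).symm.trans
        (key _ fun w => ⟨(hmem w).2, (hmem w).1⟩).symm).trans (Category.assoc _ _ _)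
    · rfl
  let c := 𝒰.glueMorphisms (fun b => (U b).ι ≫ g.left ≫ (d.c b).left) hf
  have hc : ∀ b, (U b).ι ≫ c = (U b).ι ≫ g.left ≫ (d.c b).left := fun b => 𝒰.ι_glueMorphisms _ hf b
  refine ⟨Over.homMk c (𝒰.hom_ext _ _ fun b => ?_), hc⟩
  change (U b).ι ≫ c ≫ D.hom = (U b).ι ≫ T.hom
  rw [reassoc_of% (hc b), Over.w (d.c b), Over.w g]

theorem glue_ext {T : Over S} (U : Bool → T.left.Opens) (hU : U false ⊔ U true = ⊤) {c c' : T ⟶ D}
    (h : ∀ b, (U b).ι ≫ c.left = (U b).ι ≫ c'.left) : c = c' := by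
  apply Over.OverMorphism.ext
  refine Scheme.hom_ext_of_forall _ _ fun x => ?_
  rcases (TopologicalSpace.Opens.mem_sup.1 (hU.ge (trivial : x ∈ (⊤ : T.left.Opens)))) with hx | hx
  · exact ⟨_, hx, h false⟩
  · exact ⟨_, hx, h true⟩

end Glue

section Chi

variable {S : Scheme.{u}} (h : Spec (CommRingCat.of R) ⟶ S)

/-- The base scheme over `S`. -/
noncomputable abbrev baseObj : Over S := Over.mk h

/-- The generic part over `S`. -/
noncomputable abbrev genObj (π : R) : Over S := Over.mk ((genOpen R π).ι ≫ h)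

/-- Its inclusion. -/
noncomputable abbrev genIncl (π : R) : genObj h π ⟶ baseObj h := Over.homMk (genOpen R π).ι rfl

/-- The structure map to the base. -/
noncomputable abbrev toC (B : Over (Spec (CommRingCat.of R))) : (Over.map h).obj B ⟶ baseObj h := Over.homMk B.hom rfl

instance isOpenImmersion_genIncl (π : R) : IsOpenImmersion (genIncl h π).left :=
  inferInstanceAs (IsOpenImmersion (genOpen R π).ι)

variable {D : Over S} (d : IsoNat97.Doubling (genIncl h π) D)

theorem exists_chi (hA : ThetaS.MissesNode A) : ∃ c : (Over.map h).obj A.base ⟶ D, ∀ b,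
    (brOpen A b).ι ≫ c.left = (brOpen A b).ι ≫ A.base.hom ≫ (d.c b).left := by
  refine exists_glue d (toC h A.base) (brOpen A) (brOpen_cover A hA) fun x hx => ?_
  exact ⟨⟨A.base.hom x, brOpen_inf A hx⟩, rfl⟩


/-- The map to the doubled base. -/
noncomputable def chiPt (hA : ThetaS.MissesNode A) : (Over.map h).obj A.base ⟶ D := (exists_chi A h d hA).choose

theorem chiPt_spec (hA : ThetaS.MissesNode A) (b : Bool) :
    (brOpen A b).ι ≫ (chiPt A h d hA).left = (brOpen A b).ι ≫ A.base.hom ≫ (d.c b).left :=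
  (exists_chi A h d hA).choose_spec b

theorem chiPt_eq (hA : ThetaS.MissesNode A) (b : Bool) (hb : brOpen A b = ⊤) :
    chiPt A h d hA = toC h A.base ≫ d.c b := by
  apply Over.OverMorphism.ext
  haveI : Surjective (brOpen A b).ι := ⟨fun x => ⟨⟨x, hb.ge trivial⟩, rfl⟩⟩
  haveI : IsIso (brOpen A b).ι := by
    haveI : Epi (brOpen A b).ι.base := (TopCat.epi_iff_surjective _).2 (brOpen A b).ι.surjective
    exact IsOpenImmersion.isIso _
  exact (cancel_epi (brOpen A b).ι).1 (chiPt_spec A h d hA b)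

theorem chiPt_natural {A A' : QuotObj Scheme.fppfPrecoverage (ThetaS.Gm R) (ThetaS.stAction R π)} (m : A' ⟶ A)
    (hA : ThetaS.MissesNode A) (hA' : ThetaS.MissesNode A') :
    (Over.map h).map m.base ≫ chiPt A h d hA = chiPt A' h d hA' := by
  refine glue_ext (T := (Over.map h).obj A'.base) (brOpen A') (brOpen_cover A' hA') fun b => ?_
  rw [chiPt_spec]
  have hle : brOpen A' b ≤ m.base.left ⁻¹ᵁ brOpen A b := (brOpen_map m b).ge
  change (brOpen A' b).ι ≫ m.base.left ≫ (chiPt A h d hA).left = _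
  rw [← Scheme.Hom.resLE_comp_ι_assoc m.base.left hle, chiPt_spec, Scheme.Hom.resLE_comp_ι_assoc,
    ← Over.w m.base, Category.assoc]

/-- The functor from the punctured stack to the doubled base. -/
noncomputable def chi : ThetaS.stPunc Scheme.fppfPrecoverage R π h ⥤ᵇ ofSch D where
  toFunctor :=
    { obj := fun a => ⟨(Over.map h).obj a.obj.base, ⟨chiPt a.obj h d a.property⟩⟩
      map := fun {a a'} f => ⟨(Over.map h).map f.hom.base,
        congrArg ULift.up (chiPt_natural h d f.hom a'.property a.property)⟩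
      map_id := fun a => Stk.EltObj.hom_ext ((Over.map h).map_id _)
      map_comp := fun f g => Stk.EltObj.hom_ext ((Over.map h).map_comp _ _) }
  w := rfl

end Chi

end Groth.Agent.BGaST
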