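import Groth.Agent.Theta44.ThetaAffine
import Mathlib.RingTheory.PowerSeries.Substitution
import Mathlib.RingTheory.PowerSeries.Inverse
import Mathlib.RingTheory.Flat.Basic
import Mathlib.RingTheory.RingHom.Flat

/-!
The relation `1/π = a/sⁿ - b/tⁿ` is impossible over a flat algebra with a point over the node.
-/

set_option autoImplicit false
set_option maxHeartbeats 1000000
universe u

open scoped TensorProduct

namespace Groth.Agent.BGaST

variable (k : Type u) [Field k]

/-- The node ring of `k[[X]]` with parameter `X`. -/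
abbrev NodeRing : Type u := ThetaS.STRing (PowerSeries k) (PowerSeries.X : PowerSeries k)

/-- The coordinate `s`. -/
noncomputable abbrev sE : NodeRing k := ThetaS.sFn (PowerSeries k) (PowerSeries.X : PowerSeries k)

/-- The coordinate `t`. -/
noncomputable abbrev tE : NodeRing k := ThetaS.tFn (PowerSeries k) (PowerSeries.X : PowerSeries k)

/-- The parameter. -/
noncomputable abbrev piE : NodeRing k :=
  algebraMap (PowerSeries k) (NodeRing k) (PowerSeries.X : PowerSeries k)

theorem sE_mul_tE : sE k * tE k = piE k := ThetaS.sFn_mul_tFn _ _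

theorem exists_const (a : NodeRing k) :
    ∃ c : k, a - algebraMap (PowerSeries k) (NodeRing k) (PowerSeries.C c) ∈ Ideal.span {sE k, tE k} := by
  obtain ⟨f, rfl⟩ := Ideal.Quotient.mk_surjective a
  induction f using MvPolynomial.induction_on with
  | C r =>
    obtain ⟨r', hr⟩ := PowerSeries.X_dvd_iff.2
      (show PowerSeries.constantCoeff (r - PowerSeries.C (PowerSeries.constantCoeff r)) = 0 by simp)
    refine ⟨PowerSeries.constantCoeff r, ?_⟩
    have e : Ideal.Quotient.mk _ (MvPolynomial.C r) - algebraMap (PowerSeries k) (NodeRing k)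
        (PowerSeries.C (PowerSeries.constantCoeff r)) = algebraMap (PowerSeries k) (NodeRing k) r' * piE k := by
      rw [show piE k = algebraMap (PowerSeries k) (NodeRing k) PowerSeries.X from rfl, ← map_mul]
      rw [show r' * PowerSeries.X = r - PowerSeries.C (PowerSeries.constantCoeff r) from
        ((mul_comm _ _).trans hr.symm)]
      exact (map_sub (algebraMap (PowerSeries k) (NodeRing k)) _ _).symm
    rw [e, ← sE_mul_tE]
    exact Ideal.mul_mem_left _ _ (Ideal.mul_mem_right _ _ (Ideal.subset_span (Or.inl rfl)))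
  | add f g hf hg =>
    obtain ⟨c, hc⟩ := hf
    obtain ⟨d, hd⟩ := hg
    refine ⟨c + d, ?_⟩
    rw [map_add, map_add, map_add, add_sub_add_comm]
    exact add_mem hc hd
  | mul_X f i hf =>
    refine ⟨0, ?_⟩
    rw [map_zero, map_zero, sub_zero, map_mul]
    apply Ideal.mul_mem_left
    fin_cases i
    · exact Ideal.subset_span (Or.inl rfl)
    · exact Ideal.subset_span (Or.inr rfl)

/-- The truncated monomial ring. -/
abbrev Trunc (n : ℕ) : Type u :=
  MvPowerSeries (Fin 2) k ⧸
    Ideal.span {(MvPowerSeries.X 0 : MvPowerSeries (Fin 2) k) ^ (n + 1), MvPowerSeries.X 1 ^ (n + 1)}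

theorem hasSubst : PowerSeries.HasSubst (MvPowerSeries.X 0 * MvPowerSeries.X 1 : MvPowerSeries (Fin 2) k) :=
  PowerSeries.HasSubst.of_constantCoeff_zero (by simp)

/-- The map of the node ring to the truncated monomial ring. -/
noncomputable def toTrunc (n : ℕ) : NodeRing k →+* Trunc k n :=
  Ideal.Quotient.lift _
    (MvPolynomial.eval₂Hom ((Ideal.Quotient.mk _).comp (PowerSeries.substAlgHom (hasSubst k)).toRingHom)
      ![Ideal.Quotient.mk _ (MvPowerSeries.X 0), Ideal.Quotient.mk _ (MvPowerSeries.X 1)])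
    (fun p hp => by
      obtain ⟨c, rfl⟩ := Ideal.mem_span_singleton'.1 hp
      simp [PowerSeries.substAlgHom_X (hasSubst k)])

theorem node_not_mem (n : ℕ) (a : NodeRing k)
    (h : a * piE k ^ n ∈ Ideal.span {sE k ^ (n + 1), tE k ^ (n + 1)}) : a ∈ Ideal.span {sE k, tE k} := by
  obtain ⟨c, hc⟩ := exists_const k a
  suffices c = 0 by simpa [this] using hc
  have hM : ∀ m ∈ Ideal.span {sE k, tE k}, m * piE k ^ n ∈ Ideal.span {sE k ^ (n + 1), tE k ^ (n + 1)} := by
    intro m hm
    obtain ⟨p, q, rfl⟩ := Ideal.mem_span_pair.1 hm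
    refine Ideal.mem_span_pair.2 ⟨p * tE k ^ n, q * sE k ^ n, ?_⟩
    rw [← sE_mul_tE]
    ring
  have h' := sub_mem h (hM _ hc)
  rw [← sub_mul, sub_sub_cancel] at h'
  obtain ⟨p, q, e⟩ := Ideal.mem_span_pair.1 h'
  have e' := congrArg (toTrunc k n) e
  have hs : toTrunc k n (sE k) = Ideal.Quotient.mk _ (MvPowerSeries.X 0) := by simp [toTrunc]
  have ht : toTrunc k n (tE k) = Ideal.Quotient.mk _ (MvPowerSeries.X 1) := by simp [toTrunc]
  have hr : ∀ r, toTrunc k n (algebraMap (PowerSeries k) (NodeRing k) r) =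
      Ideal.Quotient.mk _ (PowerSeries.substAlgHom (hasSubst k) r) := fun r => by
    simp [toTrunc, IsScalarTower.algebraMap_apply (PowerSeries k) (MvPolynomial (Fin 2) (PowerSeries k)) (NodeRing k)]
  rw [map_add, map_mul, map_mul, map_pow, map_pow, hs, ht, map_mul, map_pow, piE, hr, hr] at e'
  have z0 : Ideal.Quotient.mk (Ideal.span {(MvPowerSeries.X 0 : MvPowerSeries (Fin 2) k) ^ (n + 1),
      MvPowerSeries.X 1 ^ (n + 1)}) (MvPowerSeries.X 0) ^ (n + 1) = 0 := by
    rw [← map_pow, Ideal.Quotient.eq_zero_iff_mem]; exact Ideal.subset_span (Or.inl rfl)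
  have z1 : Ideal.Quotient.mk (Ideal.span {(MvPowerSeries.X 0 : MvPowerSeries (Fin 2) k) ^ (n + 1),
      MvPowerSeries.X 1 ^ (n + 1)}) (MvPowerSeries.X 1) ^ (n + 1) = 0 := by
    rw [← map_pow, Ideal.Quotient.eq_zero_iff_mem]; exact Ideal.subset_span (Or.inr rfl)
  rw [z0, z1, mul_zero, mul_zero, add_zero, ← map_pow, ← map_mul, eq_comm, Ideal.Quotient.eq_zero_iff_mem,
    Ideal.mem_span_pair] at e'
  obtain ⟨u, v, huv⟩ := e'
  have hcC : PowerSeries.substAlgHom (hasSubst k) (PowerSeries.C c) = MvPowerSeries.C c := by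
    rw [show (PowerSeries.C c : PowerSeries k) = algebraMap k (PowerSeries k) c from rfl, AlgHom.commutes]
    rfl
  rw [hcC, PowerSeries.substAlgHom_X (hasSubst k)] at huv
  let e0 : Fin 2 →₀ ℕ := Finsupp.single 0 n + Finsupp.single 1 n
  have hL : MvPowerSeries.coeff e0 (u * MvPowerSeries.X 0 ^ (n + 1) + v * MvPowerSeries.X 1 ^ (n + 1)) = 0 := by
    rw [map_add, (MvPowerSeries.X_pow_dvd_iff.1 (dvd_mul_left _ u)) e0 (by simp [e0]),
      (MvPowerSeries.X_pow_dvd_iff.1 (dvd_mul_left _ v)) e0 (by simp [e0]), add_zero]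
  rw [huv, mul_pow, MvPowerSeries.X_pow_eq, MvPowerSeries.X_pow_eq, MvPowerSeries.monomial_mul_monomial,
    one_mul, MvPowerSeries.coeff_C_mul, MvPowerSeries.coeff_monomial_same, mul_one] at hL
  exact hL

/-- No flat algebra with a point over the node kills the class of `πⁿ`. -/
theorem obstruction (n : ℕ) {B : Type u} [CommRing B] (g : NodeRing k →+* B) (hg : g.Flat) (q : Ideal B)
    [hq : q.IsPrime] (hs : g (sE k) ∈ q) (ht : g (tE k) ∈ q) (a b : B)
    (hab : a * g (sE k) ^ (n + 1) + b * g (tE k) ^ (n + 1) = g (piE k) ^ n) : False := by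
  algebraize [g]
  let M : Ideal (NodeRing k) := Ideal.span {sE k, tE k}
  let I : Ideal (NodeRing k) := Ideal.span {sE k ^ (n + 1), tE k ^ (n + 1)}
  let mul : NodeRing k →ₗ[NodeRing k] NodeRing k ⧸ I := LinearMap.toSpanSingleton _ _ (Ideal.Quotient.mk I (piE k ^ n))
  have hker : ∀ x, mul x = 0 ↔ x * piE k ^ n ∈ I := fun x => by
    rw [← Ideal.Quotient.eq_zero_iff_mem]
    rfl
  have hMle : M ≤ LinearMap.ker mul := fun m hm => by
    obtain ⟨p, q, rfl⟩ := Ideal.mem_span_pair.1 hm
    rw [LinearMap.mem_ker, hker, Ideal.mem_span_pair]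
    exact ⟨p * tE k ^ n, q * sE k ^ n, by rw [← sE_mul_tE]; ring⟩
  let φ : (NodeRing k ⧸ M) →ₗ[NodeRing k] NodeRing k ⧸ I := Submodule.liftQ M mul hMle
  have hφ : Function.Injective φ := by
    rw [injective_iff_map_eq_zero]
    intro x hx
    obtain ⟨x, rfl⟩ := Ideal.Quotient.mk_surjective x
    exact Ideal.Quotient.eq_zero_iff_mem.2 (node_not_mem k n x ((hker x).1 hx))
  have hinj := Module.Flat.rTensor_preserves_injective_linearMap (M := B) φ hφ
  have hI : ∀ x ∈ I, ∀ y : B, (1 : NodeRing k ⧸ I) ⊗ₜ[NodeRing k] (x • y) = 0 := fun x hx y => by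
    refine (TensorProduct.smul_tmul x (1 : NodeRing k ⧸ I) y).symm.trans ?_
    rw [show x • (1 : NodeRing k ⧸ I) = 0 from (mul_one _).trans (Ideal.Quotient.eq_zero_iff_mem.2 hx),
      TensorProduct.zero_tmul]
  have h1 : φ.rTensor B ((1 : NodeRing k ⧸ M) ⊗ₜ[NodeRing k] (1 : B)) = 0 := by
    rw [LinearMap.rTensor_tmul]
    have e1 : φ 1 = piE k ^ n • (1 : NodeRing k ⧸ I) := by
      change mul 1 = _
      rw [show mul 1 = (1 : NodeRing k) • Ideal.Quotient.mk I (piE k ^ n) from rfl, one_smul]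
      exact congrArg (Ideal.Quotient.mk I) (mul_one (piE k ^ n)).symm
    rw [e1]
    refine (TensorProduct.smul_tmul (piE k ^ n) (1 : NodeRing k ⧸ I) (1 : B)).trans ?_
    rw [Algebra.smul_def, RingHom.algebraMap_toAlgebra, map_pow, mul_one, ← hab,
      TensorProduct.tmul_add,
      show a * g (sE k) ^ (n + 1) = (sE k ^ (n + 1)) • a by
        rw [Algebra.smul_def, RingHom.algebraMap_toAlgebra, map_pow, mul_comm],
      show b * g (tE k) ^ (n + 1) = (tE k ^ (n + 1)) • b by
        rw [Algebra.smul_def, RingHom.algebraMap_toAlgebra, map_pow, mul_comm],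
      hI _ (Ideal.subset_span (Or.inl rfl)), hI _ (Ideal.subset_span (Or.inr rfl)), add_zero]
  have h2 := hinj (h1.trans (map_zero _).symm)
  have hMq : ∀ m ∈ M, algebraMap (NodeRing k) (B ⧸ q) m = 0 := fun m hm => by
    rw [IsScalarTower.algebraMap_apply (NodeRing k) B (B ⧸ q), Ideal.Quotient.algebraMap_eq,
      Ideal.Quotient.eq_zero_iff_mem, RingHom.algebraMap_toAlgebra]
    exact (Ideal.map_le_iff_le_comap.1 (by
      rw [Ideal.map_span, Ideal.span_le]
      rintro _ ⟨y, (rfl | rfl), rfl⟩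
      exacts [hs, ht]) : M ≤ q.comap g) hm
  let f₁ : (NodeRing k ⧸ M) →ₗ[NodeRing k] B ⧸ q :=
    Submodule.liftQ M (Algebra.linearMap (NodeRing k) (B ⧸ q)) fun m hm => hMq m hm
  let ψ : (NodeRing k ⧸ M) ⊗[NodeRing k] B →ₗ[NodeRing k] B ⧸ q :=
    TensorProduct.lift ((LinearMap.mul (NodeRing k) (B ⧸ q)).compl₁₂ f₁
      (IsScalarTower.toAlgHom (NodeRing k) B (B ⧸ q)).toLinearMap)
  have h3 := congrArg ψ h2
  rw [map_zero] at h3
  have h4 : f₁ 1 * (1 : B ⧸ q) = 0 := by
    simpa [ψ, TensorProduct.lift.tmul, LinearMap.compl₁₂_apply] using h3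
  rw [show f₁ 1 = (1 : B ⧸ q) from map_one (algebraMap (NodeRing k) (B ⧸ q)), one_mul] at h4
  exact hq.ne_top ((Ideal.Quotient.subsingleton_iff).1 (subsingleton_of_zero_eq_one h4.symm))

theorem killVar_C (i : Fin 2) {R : Type u} [CommRing R] (r : R) :
    Theta44.killVar i (MvPolynomial.C r : MvPolynomial (Fin 2) R) = MvPolynomial.C r := by
  simp [Theta44.killVar]

theorem piE_regular (c : NodeRing k) (h : piE k * c = 0) : c = 0 := by
  have hX : (PowerSeries.X : PowerSeries k) ≠ 0 := PowerSeries.X_ne_zero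
  have ht : ∀ c : NodeRing k, tE k * c = 0 → c = 0 := by
    intro c h
    obtain ⟨f, rfl⟩ := Ideal.Quotient.mk_surjective c
    rw [← map_mul, Ideal.Quotient.eq_zero_iff_mem, Ideal.mem_span_singleton] at h
    obtain ⟨g, hg⟩ := h
    rw [Ideal.Quotient.eq_zero_iff_mem, Ideal.mem_span_singleton]
    have h1 := congrArg (Theta44.killVar 1) hg
    simp only [map_mul, map_sub, Theta44.killVar_X_self, zero_mul, mul_zero, zero_sub, killVar_C] at h1
    have h2 : Theta44.killVar 1 g = 0 := by
      rcases mul_eq_zero.1 h1.symm with h | h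
      · exact absurd (by simpa using h) hX
      · exact h
    obtain ⟨g', hg'⟩ := Theta44.X_dvd_sub_killVar 1 g
    rw [h2, sub_zero] at hg'
    refine ⟨g', mul_left_cancel₀ (MvPolynomial.X_ne_zero 1) ?_⟩
    rw [hg, hg']
    ring
  rw [← sE_mul_tE, mul_assoc] at h
  exact ht c (Theta44.sFn_regular hX _ h)

theorem map_piE_regular {B : Type u} [CommRing B] (g : NodeRing k →+* B) (hg : g.Flat) (c : B)
    (h : g (piE k) * c = 0) : c = 0 := by
  algebraize [g]
  have h1 := Module.Flat.rTensor_preserves_injective_linearMap (M := B) (LinearMap.mulLeft (NodeRing k) (piE k))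
    (fun x y e => sub_eq_zero.1 (piE_regular k _ (by rw [mul_sub, sub_eq_zero]; exact e)))
  let l := (TensorProduct.lid (NodeRing k) B).symm
  have h2 : (LinearMap.mulLeft (NodeRing k) (piE k)).rTensor B (l c) = l (piE k • c) := by
    rw [TensorProduct.lid_symm_apply, LinearMap.rTensor_tmul, TensorProduct.lid_symm_apply]
    refine Eq.trans ?_ (TensorProduct.smul_tmul (piE k) (1 : NodeRing k) c)
    congr 1
  have h3 : piE k • c = 0 := by rw [Algebra.smul_def, RingHom.algebraMap_toAlgebra, h]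
  exact l.injective ((h1 (h2.trans (by rw [h3, map_zero, map_zero]))).trans (map_zero l).symm)

/-- Fractions at the two branches with difference `±1/π` do not exist over such an algebra. -/
theorem no_fractions {B : Type u} [CommRing B] (g : NodeRing k →+* B) (hg : g.Flat) (q : Ideal B) [q.IsPrime]
    (hs : g (sE k) ∈ q) (ht : g (tE k) ∈ q) (n m : ℕ) (a b ε : B) (hε : IsUnit ε)
    (h : g (piE k) ^ m * ((a * g (tE k) ^ (n + 1) - b * g (sE k) ^ (n + 1)) * g (piE k) -
      ε * g (piE k) ^ (n + 1)) = 0) : False := by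
  have hcancel : ∀ (j : ℕ) (c : B), g (piE k) ^ j * c = 0 → c = 0 := by
    intro j
    induction j with
    | zero => intro c hc; rwa [pow_zero, one_mul] at hc
    | succ j ih => intro c hc; exact ih c (map_piE_regular k g hg _ (by rwa [pow_succ', mul_assoc] at hc))
  have h1 := hcancel m _ h
  have h2 : (a * g (tE k) ^ (n + 1) - b * g (sE k) ^ (n + 1)) - ε * g (piE k) ^ n = 0 := by
    refine map_piE_regular k g hg _ ?_
    linear_combination h1
  obtain ⟨e, he⟩ := hε.exists_left_inv
  refine obstruction k n g hg q hs ht (-(e * b)) (e * a) ?_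
  linear_combination e * h2 + (g (piE k) ^ n) * he

end Groth.Agent.BGaST
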