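import Groth.Agent.BGaST.Extension
import Groth.Agent.BGaST.Obstruction

/-!
The twisted torsor does not extend over the node.
-/

set_option autoImplicit false
set_option maxHeartbeats 1000000
set_option linter.style.haveILetI false
set_option linter.unusedSectionVars false
set_option backward.isDefEq.respectTransparency false
set_option backward.isDefEq.respectTransparency.types false
universe u

open CategoryTheory CategoryTheory.Limits MonoidalCategory CartesianMonoidalCategory AlgebraicGeometry AlgSt FibCat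
open Groth.Agent.AlgSt88 Opposite
open scoped MonObj GrpObj

namespace Groth.Agent.BGaST

theorem exists_fraction {X : Scheme.{u}} [IsAffine X] (p : Γ(X, ⊤)) {U : X.Opens} (hU : U = X.basicOpen p)
    (σ : Γ(X, U)) : ∃ n : ℕ, ∀ N, n ≤ N → ∃ a, σ * X.presheaf.map (homOfLE (le_top : U ≤ ⊤)).op (p ^ N) =
      X.presheaf.map (homOfLE (le_top : U ≤ ⊤)).op a := by
  subst hU
  obtain ⟨a, ⟨_, n, rfl⟩, ha⟩ := IsLocalization.exists_mk'_eq (Submonoid.powers p) σ
  rw [eq_comm, IsLocalization.eq_mk'_iff_mul_eq] at ha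
  refine ⟨n, fun N hN => ⟨a * p ^ (N - n), ?_⟩⟩
  have ha' : σ * X.presheaf.map (homOfLE (le_top : X.basicOpen p ≤ ⊤)).op (p ^ n) =
      X.presheaf.map (homOfLE (le_top : X.basicOpen p ≤ ⊤)).op a := ha
  rw [← Nat.add_sub_cancel' hN, pow_add, map_mul, ← mul_assoc, ha', ← map_mul, Nat.add_sub_cancel_left]

theorem exists_pow_mul {X : Scheme.{u}} [IsAffine X] (p : Γ(X, ⊤)) {U : X.Opens} (hU : U = X.basicOpen p)
    (z : Γ(X, ⊤)) (hz : X.presheaf.map (homOfLE (le_top : U ≤ ⊤)).op z = 0) : ∃ m : ℕ, p ^ m * z = 0 := by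
  subst hU
  have h : algebraMap Γ(X, ⊤) Γ(X, X.basicOpen p) z = algebraMap Γ(X, ⊤) Γ(X, X.basicOpen p) 0 := by
    rw [map_zero]; exact hz
  rw [IsLocalization.eq_iff_exists (Submonoid.powers p)] at h
  obtain ⟨⟨_, m, rfl⟩, hm⟩ := h
  exact ⟨m, by simpa using hm⟩

variable (k : Type u) [Field k]

/-- The structure map of the test ring. -/
noncomputable abbrev hk : Spec (CommRingCat.of (PowerSeries k)) ⟶ Spec (CommRingCat.of k) :=
  Spec.map (CommRingCat.ofHom (algebraMap k (PowerSeries k)))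

/-- The parameter as a function. -/
noncomputable abbrev piFn : Γ(Spec (CommRingCat.of (PowerSeries k)), ⊤) :=
  (Scheme.ΓSpecIso (CommRingCat.of (PowerSeries k))).inv (PowerSeries.X : PowerSeries k)

/-- The coordinate of a point on the generic part. -/
noncomputable abbrev genVal (g : genObj (hk k) (PowerSeries.X : PowerSeries k) ⟶ Red.Ga (Spec (CommRingCat.of k))) :
    Γ((genOpen (PowerSeries k) (PowerSeries.X : PowerSeries k)).toScheme, ⊤) :=
  Red.gaFn g

theorem exists_inverse_pt :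
    ∃ g₀ : genObj (hk k) (PowerSeries.X : PowerSeries k) ⟶ Red.Ga (Spec (CommRingCat.of k)),
      genVal k g₀ * (genOpen (PowerSeries k) PowerSeries.X).ι.appTop (piFn k) = 1 := by
  let U := genOpen (PowerSeries k) (PowerSeries.X : PowerSeries k)
  have h0 := isUnit_res (piFn k) (le_refl U)
  rw [← topIso_hom_ι] at h0
  have hu : IsUnit (U.ι.appTop (piFn k)) := by
    have h1 := h0.map U.topIso.inv.hom
    rwa [← CommRingCat.comp_apply, Iso.hom_inv_id] at h1
  obtain ⟨g₀, hg₀⟩ := RedPts82.gaFn_surjective (S := Spec (CommRingCat.of k))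
    (X := genObj (hk k) (PowerSeries.X : PowerSeries k)) ((↑hu.unit⁻¹ : Γ(U.toScheme, ⊤)))
  exact ⟨g₀, (congrArg (fun t : Γ(U.toScheme, ⊤) => t * U.ι.appTop (piFn k)) hg₀).trans hu.val_inv_mul⟩

theorem false_of_trivialisations (g₀ : genObj (hk k) (PowerSeries.X : PowerSeries k) ⟶ Red.Ga (Spec (CommRingCat.of k)))
    (hg₀ : genVal k g₀ * (genOpen (PowerSeries k) PowerSeries.X).ι.appTop (piFn k) = 1)
    (P : (BGc (Red.Ga (Spec (CommRingCat.of k)))).obj)
    (hP : P.base = (Over.map (hk k)).obj (ThetaS.STSch (PowerSeries k) PowerSeries.X))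
    (e : ∀ b, trivObj (Red.Ga (Spec (CommRingCat.of k)))
      (openS (hk k) (brU (PowerSeries k) PowerSeries.X b)) ⟶ P)
    (hb : ∀ b, (e b).base ≫ eqToHom hP =
      (Over.map (hk k)).map (openIncl (ThetaS.STSch (PowerSeries k) PowerSeries.X) (brU (PowerSeries k) PowerSeries.X b)))
    (hrel : trivMap (Red.Ga (Spec (CommRingCat.of k)))
        ((Over.map (hk k)).map (openLE (ThetaS.STSch (PowerSeries k) PowerSeries.X) (midU_le false))) ≫ e false =
      tr (midToGen (hk k) ≫ g₀) ≫ trivMap (Red.Ga (Spec (CommRingCat.of k)))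
        ((Over.map (hk k)).map (openLE (ThetaS.STSch (PowerSeries k) PowerSeries.X) (midU_le true))) ≫ e true) :
    False := by
  obtain ⟨Pb, PP, Pact, Pπ, Pcart, Ploc, Pφ, Peqv⟩ := P
  change Pb = _ at hP
  subst hP
  let G := Red.Ga (Spec (CommRingCat.of k))
  let V := ThetaS.STSch (PowerSeries k) (PowerSeries.X : PowerSeries k)
  let P : (BGc G).obj := ⟨(Over.map (hk k)).obj V, PP, Pact, Pπ, Pcart, Ploc, Pφ, Peqv⟩
  have hfg := isFibGrpd_quotSt (K := Scheme.fppfPrecoverage) (trivAction G)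
  -- the node
  let ev : NodeRing k →+* k := Ideal.Quotient.lift _
    (MvPolynomial.eval₂Hom PowerSeries.constantCoeff ![0, 0]) (fun p hp => by
      obtain ⟨c, rfl⟩ := Ideal.mem_span_singleton'.1 hp
      simp)
  haveI : (RingHom.ker ev).IsPrime := RingHom.ker_isPrime ev
  let v₀ : V.left := ⟨RingHom.ker ev, inferInstance⟩
  -- a flat affine neighbourhood with a point of the torsor
  obtain ⟨Rc, ⟨hRc, hRcP⟩, hsec⟩ := (Ploc : NonAbH1.IsLocallyTrivialFor Scheme.fppfPrecoverage (Over.mk Pπ.left))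
  obtain ⟨Y, g, hg, y, hy⟩ := Scheme.JointlySurjective.exists_eq (K := Scheme.precoverage (@Flat ⊓ @LocallyOfFinitePresentation)) Rc ⟨hRc, hRcP⟩ v₀
  obtain ⟨j, y', hy'⟩ := Y.affineCover.exists_eq y
  obtain ⟨s, hs⟩ := hsec g hg
  haveI : Flat g := (hRcP hg).1
  let Wl := Y.affineCover.X j
  haveI : IsAffine Wl := inferInstance
  let f : Wl ⟶ V.left := Y.affineCover.f j ≫ g
  haveI : Flat f := inferInstance
  let W : Over (Spec (CommRingCat.of k)) := Over.mk (f ≫ ((Over.map (hk k)).obj V).hom)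
  let ff : W ⟶ (Over.map (hk k)).obj V := Over.homMk f rfl
  let σ : W ⟶ PP := Over.homMk (Y.affineCover.f j ≫ s) (by
    show (Y.affineCover.f j ≫ s) ≫ PP.hom = (Y.affineCover.f j ≫ g) ≫ ((Over.map (hk k)).obj V).hom
    rw [← Over.w Pπ, Category.assoc, Category.assoc]
    exact congrArg (_ ≫ ·) ((Category.assoc _ _ _).symm.trans (congrArg (· ≫ _) hs)))
  let ψ : trivObj G W ⟶ P := (quotMap Scheme.fppfPrecoverage G (trivAction G)).map
    (⟨𝟙 W, congrArg ULift.up (toUnit_unique _ _)⟩ : unitEl W ⟶ ⟨W, ⟨σ ≫ Pφ⟩⟩) ≫ pointHom P σ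
  have hψ : ψ.base = ff := by
    change 𝟙 W ≫ σ ≫ Pπ = ff
    rw [Category.id_comp]
    refine Over.OverMorphism.ext ?_
    change (Y.affineCover.f j ≫ s) ≫ Pπ.left = Y.affineCover.f j ≫ g
    rw [Category.assoc]
    exact congrArg (_ ≫ ·) hs
  -- the branches on the neighbourhood
  let U' : Bool → W.left.Opens := fun b => f ⁻¹ᵁ brU (PowerSeries k) PowerSeries.X b
  let U2 : W.left.Opens := f ⁻¹ᵁ midU (PowerSeries k) PowerSeries.X
  have hU2 : ∀ b, U2 ≤ U' b := fun b x hx => midU_le b hx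
  let p : ∀ b, openObj W (U' b) ⟶ openS (hk k) (brU (PowerSeries k) PowerSeries.X b) := fun b =>
    Over.homMk (f.resLE _ (U' b) le_rfl) (by
      show f.resLE _ (U' b) le_rfl ≫ ((brU (PowerSeries k) PowerSeries.X b).ι ≫ V.hom) ≫ hk k =
        (U' b).ι ≫ f ≫ V.hom ≫ hk k
      rw [Category.assoc, Scheme.Hom.resLE_comp_ι_assoc])
  let p2 : openObj W U2 ⟶ openS (hk k) (midU (PowerSeries k) PowerSeries.X) :=
    Over.homMk (f.resLE _ U2 le_rfl) (by
      show f.resLE _ U2 le_rfl ≫ ((midU (PowerSeries k) PowerSeries.X).ι ≫ V.hom) ≫ hk k =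
        U2.ι ≫ f ≫ V.hom ≫ hk k
      rw [Category.assoc, Scheme.Hom.resLE_comp_ι_assoc])
  have hgm : ∀ b, ∃ gm : openObj W (U' b) ⟶ G,
      trivMap G (p b) ≫ e b = tr gm ≫ trivMap G (openIncl W (U' b)) ≫ ψ := by
    intro b
    refine exists_tr_comp hfg _ _ ?_
    change p b ≫ (e b).base = openIncl W (U' b) ≫ ψ.base
    have h1 := hb b
    rw [eqToHom_refl] at h1
    rw [hψ, show (e b).base = _ from (Category.comp_id _).symm.trans h1]
    apply Over.OverMorphism.ext
    exact Scheme.Hom.resLE_comp_ι f _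
  choose gm hgm using hgm
  have hres : ∀ b, trivMap G (openLE W (hU2 b)) ≫ trivMap G (p b) ≫ e b =
      tr (openLE W (hU2 b) ≫ gm b) ≫ trivMap G (openIncl W U2) ≫ ψ := by
    intro b
    rw [hgm b, ← Category.assoc, trivMap_tr, Category.assoc, ← Category.assoc (trivMap G (openLE W (hU2 b))),
      ← trivMap_comp, openLE_incl]
  have hp2 : ∀ b, openLE W (hU2 b) ≫ p b =
      p2 ≫ (Over.map (hk k)).map (openLE V (midU_le b)) := by
    intro b
    apply Over.OverMorphism.ext
    change W.left.homOfLE (hU2 b) ≫ f.resLE _ (U' b) le_rfl = f.resLE _ U2 le_rfl ≫ V.left.homOfLE (midU_le b)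
    rw [← cancel_mono (brU (PowerSeries k) PowerSeries.X b).ι, Category.assoc, Category.assoc,
      Scheme.Hom.resLE_comp_ι, Scheme.homOfLE_ι, Scheme.Hom.resLE_comp_ι, Scheme.homOfLE_ι_assoc]
  have hcoc : openLE W (hU2 false) ≫ gm false = (p2 ≫ midToGen (hk k) ≫ g₀) * (openLE W (hU2 true) ≫ gm true) := by
    refine tr_cancel hfg (trivMap G (openIncl W U2) ≫ ψ) ?_
    rw [← hres false, ← tr_mul, Category.assoc, ← hres true, ← Category.assoc, ← trivMap_comp, hp2 false,
      trivMap_comp, Category.assoc, hrel, ← Category.assoc, trivMap_tr, Category.assoc,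
      ← Category.assoc (trivMap G p2), ← trivMap_comp, ← hp2 true, trivMap_comp, Category.assoc]
  -- rings
  let gB : NodeRing k →+* Γ(W.left, ⊤) :=
    f.appTop.hom.comp (Scheme.ΓSpecIso (CommRingCat.of (NodeRing k))).inv.hom
  haveI : IsAffine V.left := inferInstanceAs (IsAffine (Spec (CommRingCat.of (NodeRing k))))
  have hflat : gB.Flat :=
    RingHom.Flat.comp (RingHom.Flat.of_bijective
      (ConcreteCategory.bijective_of_isIso (Scheme.ΓSpecIso (CommRingCat.of (NodeRing k))).inv))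
      ((HasRingHomProperty.iff_of_isAffine (P := @Flat)).1 (inferInstanceAs (Flat f)))
  have hbasic : ∀ b, U' b = W.left.basicOpen (gB (brFn (PowerSeries k) PowerSeries.X b)) := fun b =>
    Scheme.preimage_basicOpen_top f _
  have hbasic2 : U2 = W.left.basicOpen (gB (piE k)) := by
    rw [← sE_mul_tE, map_mul, Scheme.basicOpen_mul]
    exact congrArg₂ (· ⊓ ·) (hbasic false) (hbasic true)
  let q : Ideal Γ(W.left, ⊤) := RingHom.ker (W.left.evaluation ⊤ y' trivial).hom
  haveI : q.IsPrime := RingHom.ker_isPrime _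
  have hfy : f y' = v₀ := by
    show (Y.affineCover.f j ≫ g) y' = v₀
    rw [Scheme.Hom.comp_apply, hy', hy]
  have hq : ∀ c : NodeRing k, ev c = 0 → gB c ∈ q := by
    intro c hc
    refine (W.left.evaluation_eq_zero_iff_notMem_basicOpen _ _ _).2 fun hmem => ?_
    have h0 : y' ∈ f ⁻¹ᵁ (Spec (CommRingCat.of (NodeRing k))).basicOpen
        ((Scheme.ΓSpecIso (CommRingCat.of (NodeRing k))).inv c) := by
      erw [Scheme.preimage_basicOpen_top]; exact hmem
    have h1 : f y' ∈ (Spec (CommRingCat.of (NodeRing k))).basicOpen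
        ((Scheme.ΓSpecIso (CommRingCat.of (NodeRing k))).inv c) := h0
    rw [hfy, basicOpen_eq_of_affine] at h1
    exact h1 hc
  -- the equation
  let r : Γ(W.left, ⊤) → Γ(W.left, U2) := W.left.presheaf.map (homOfLE (le_top : U2 ≤ ⊤)).op
  let u := sec (p2 ≫ midToGen (hk k) ≫ g₀)
  have hu : u * r (gB (piE k)) = 1 := by
    let w := p2 ≫ midToGen (hk k)
    have h1 : w.left.appTop ((genOpen (PowerSeries k) PowerSeries.X).ι.appTop (piFn k)) =
        U2.ι.appTop (gB (piE k)) := by
      have h2 : w.left ≫ (genOpen (PowerSeries k) PowerSeries.X).ι = U2.ι ≫ f ≫ V.hom := by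
        change (f.resLE _ U2 le_rfl ≫ V.hom.resLE _ _ dOpen_inf.le) ≫ _ = _
        rw [Category.assoc, Scheme.Hom.resLE_comp_ι, Scheme.Hom.resLE_comp_ι_assoc]
      have h3 := congrArg (fun t => t.appTop (piFn k)) h2
      simp only [Scheme.Hom.comp_appTop, CommRingCat.comp_apply] at h3
      refine h3.trans (congrArg (fun t => U2.ι.appTop (f.appTop t)) ?_)
      exact (congrArg (fun t => t (PowerSeries.X : PowerSeries k))
        (Scheme.ΓSpecIso_inv_naturality (CommRingCat.ofHom (algebraMap (PowerSeries k) (NodeRing k))))).symm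
    have h4 : u = U2.topIso.hom (w.left.appTop (Red.gaFn g₀)) := by
      show U2.topIso.hom _ = _
      rw [← Category.assoc, RedPts82.gaFn_comp]
    show u * W.left.presheaf.map (homOfLE (le_top : U2 ≤ ⊤)).op (gB (piE k)) = 1
    rw [← topIso_hom_ι, ← h1, h4]
    refine (map_mul U2.topIso.hom.hom _ _).symm.trans ?_
    exact (congrArg U2.topIso.hom.hom ((map_mul w.left.appTop.hom _ _).symm.trans
      ((congrArg w.left.appTop.hom hg₀).trans (map_one _)))).trans (map_one _)
  have hadd : W.left.presheaf.map (homOfLE (hU2 false)).op (sec (gm false)) =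
      u + W.left.presheaf.map (homOfLE (hU2 true)).op (sec (gm true)) := by
    rw [← sec_openLE, ← sec_openLE, hcoc, sec_mul]
  haveI : IsAffine W.left := inferInstanceAs (IsAffine Wl)
  obtain ⟨nf, hnf⟩ := exists_fraction _ (hbasic false) (sec (gm false))
  obtain ⟨nt, hnt⟩ := exists_fraction _ (hbasic true) (sec (gm true))
  obtain ⟨a, ha⟩ := hnf (nf + nt + 1) (by omega)
  obtain ⟨c, hc⟩ := hnt (nf + nt + 1) (by omega)
  have ha' := congrArg (fun t => W.left.presheaf.map (homOfLE (hU2 false)).op t) ha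
  have hc' := congrArg (fun t => W.left.presheaf.map (homOfLE (hU2 true)).op t) hc
  simp only [map_mul, res_res'] at ha' hc'
  change _ * r (gB (sE k) ^ (nf + nt + 1)) = r a at ha'
  change _ * r (gB (tE k) ^ (nf + nt + 1)) = r c at hc'
  have hzero : r ((a * gB (tE k) ^ (nf + nt + 1) - c * gB (sE k) ^ (nf + nt + 1)) * gB (piE k) -
      1 * gB (piE k) ^ (nf + nt + 1)) = 0 := by
    simp only [r, map_mul, map_sub, map_one, map_pow] at ha' hc' hu ⊢
    rw [← ha', ← hc', hadd]
    have hST : W.left.presheaf.map (homOfLE (le_top : U2 ≤ ⊤)).op (gB (piE k)) =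
        W.left.presheaf.map (homOfLE (le_top : U2 ≤ ⊤)).op (gB (sE k)) *
          W.left.presheaf.map (homOfLE (le_top : U2 ≤ ⊤)).op (gB (tE k)) := by
      rw [← sE_mul_tE, map_mul, map_mul]
    rw [hST] at hu ⊢
    rw [mul_pow]
    linear_combination (W.left.presheaf.map (homOfLE (le_top : U2 ≤ ⊤)).op (gB (sE k)) ^ (nf + nt + 1) *
      W.left.presheaf.map (homOfLE (le_top : U2 ≤ ⊤)).op (gB (tE k)) ^ (nf + nt + 1)) * hu
  obtain ⟨m, hm⟩ := exists_pow_mul _ hbasic2 _ hzero
  exact no_fractions k gB hflat q (hq _ (by simp [ev])) (hq _ (by simp [ev])) (nf + nt) m a c 1 isUnit_one hm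

theorem not_isSCompleteOver :
    ¬ ThetaS.IsSCompleteOver Scheme.fppfPrecoverage
        (AlgSt.BG Scheme.fppfPrecoverage (Red.Ga (Spec (CommRingCat.of k)))) := by
  intro H
  have hX : Irreducible (PowerSeries.X : PowerSeries k) := PowerSeries.X_prime.irreducible
  have hL := H (PowerSeries k) PowerSeries.X hX (hk k)
  obtain ⟨g₀, hg₀⟩ := exists_inverse_pt k
  obtain ⟨D, ⟨d⟩⟩ := IsoNat97.exists_doubling (genIncl (hk k) (PowerSeries.X : PowerSeries k))
  obtain ⟨x, hx, m, hm, hrel⟩ := exists_twisted_torsor RedPts82.affineHom_ga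
    (genIncl (hk k) (PowerSeries.X : PowerSeries k)) g₀ d
  obtain ⟨P, hP, e, he, her⟩ :=
    exists_trivialisations (hk k) d RedPts82.affineHom_ga g₀ hx m hm hrel fun sq => (hL sq).1
  exact false_of_trivialisations k g₀ hg₀ P hP e he her

end Groth.Agent.BGaST
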