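import Groth.Agent.IsoNat97.Doubling
import Groth.Agent.AlgSt88.QuotFib
import Groth.Agent.AlgSt88.QuotStack

/-!
Trivial torsors, their translations, and torsors twisted over a doubled scheme.
-/

set_option autoImplicit false
set_option maxHeartbeats 1000000
set_option linter.style.haveILetI false
set_option linter.unusedSectionVars false
set_option backward.isDefEq.respectTransparency false
set_option backward.isDefEq.respectTransparency.types false
universe u

open CategoryTheory CategoryTheory.Limits MonoidalCategory CartesianMonoidalCategory AlgebraicGeometry AlgSt FibCat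
open Groth.Agent.AlgSt88
open scoped MonObj GrpObj

namespace Groth.Agent.BGaST

variable {S : Scheme.{u}} (G : Over S) [GrpObj G]

/-- The category of torsors. -/
noncomputable abbrev BGc : AlgSt.Cat S := AlgSt.BG Scheme.fppfPrecoverage G

/-- The point of the terminal object. -/
noncomputable def unitEl (W : Over S) : (ofSch (𝟙_ (Over S))).obj := ⟨W, ⟨toUnit W⟩⟩

/-- The trivial torsor. -/
noncomputable def trivObj (W : Over S) : (BGc G).obj :=
  (quotMap Scheme.fppfPrecoverage G (trivAction G)).obj (unitEl W)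

/-- The morphism of trivial torsors over a morphism. -/
noncomputable def trivMap {W' W : Over S} (i : W' ⟶ W) : trivObj G W' ⟶ trivObj G W :=
  (quotMap Scheme.fppfPrecoverage G (trivAction G)).map
    (⟨i, congrArg ULift.up (toUnit_unique _ _)⟩ : unitEl W' ⟶ unitEl W)

theorem trivMap_base {W' W : Over S} (i : W' ⟶ W) : (trivMap G i).base = i := rfl

theorem trivMap_top {W' W : Over S} (i : W' ⟶ W) : (trivMap G i).top = G ◁ i := rfl

theorem trivMap_id (W : Over S) : trivMap G (𝟙 W) = 𝟙 _ :=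
  QuotObj.hom_ext rfl (MonoidalCategory.whiskerLeft_id _ _)

theorem trivMap_comp {W'' W' W : Over S} (j : W'' ⟶ W') (i : W' ⟶ W) :
    trivMap G (j ≫ i) = trivMap G j ≫ trivMap G i :=
  QuotObj.hom_ext rfl (MonoidalCategory.whiskerLeft_comp _ _ _)

theorem isHomLift_trivMap {W' W : Over S} (i : W' ⟶ W) : (BGc G).p.IsHomLift i (trivMap G i) :=
  IsHomLift.of_fac' (BGc G).p i (trivMap G i) rfl rfl (by simp; rfl)

variable {G}

theorem exists_tr {W : Over S} (g : W ⟶ G) : ∃ h : trivObj G W ⟶ trivObj G W,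
    h.base = 𝟙 W ∧ h.top = lift (fst G W * (snd G W ≫ g)) (snd G W ≫ 𝟙 W) :=
  (exists_quot_hom_over (trivAction G) (𝟙 W) (toUnit W) (toUnit W)).2 g (toUnit_unique _ _)

/-- Translation of a trivial torsor. -/
noncomputable def tr {W : Over S} (g : W ⟶ G) : trivObj G W ⟶ trivObj G W := (exists_tr g).choose

theorem tr_base {W : Over S} (g : W ⟶ G) : (tr g).base = 𝟙 W := (exists_tr g).choose_spec.1

theorem tr_top {W : Over S} (g : W ⟶ G) : (tr g).top = lift (fst G W * (snd G W ≫ g)) (snd G W) := by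
  rw [tr, (exists_tr g).choose_spec.2, Category.comp_id]

theorem isHomLift_tr {W : Over S} (g : W ⟶ G) : (BGc G).p.IsHomLift (𝟙 W) (tr g) :=
  IsHomLift.of_fac' (BGc G).p (𝟙 W) (tr g) rfl rfl (by simp; exact tr_base g)

theorem tr_one (W : Over S) : tr (1 : W ⟶ G) = 𝟙 _ := by
  refine QuotObj.hom_ext (tr_base _) ?_
  rw [tr_top, MonObj.comp_one, _root_.mul_one, lift_fst_snd]
  rfl

theorem tr_mul {W : Over S} (g g' : W ⟶ G) : tr g ≫ tr g' = tr (g * g') := by
  refine QuotObj.hom_ext ?_ ?_
  · change (tr g).base ≫ (tr g').base = (tr (g * g')).base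
    rw [tr_base, tr_base, tr_base]
    exact Category.id_comp _
  · change (tr g).top ≫ (tr g').top = (tr (g * g')).top
    rw [tr_top, tr_top, tr_top]
    show lift (fst G W * (snd G W ≫ g)) (snd G W) ≫ lift (fst G W * (snd G W ≫ g')) (snd G W) = _
    rw [comp_lift, MonObj.comp_mul, lift_fst, lift_snd, lift_snd_assoc, MonObj.comp_mul, _root_.mul_assoc]

theorem trivMap_tr {W' W : Over S} (i : W' ⟶ W) (g : W ⟶ G) :
    trivMap G i ≫ tr g = tr (i ≫ g) ≫ trivMap G i := by
  refine QuotObj.hom_ext ?_ ?_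
  · change i ≫ (tr g).base = (tr (i ≫ g)).base ≫ i
    rw [tr_base, tr_base]
    exact (Category.comp_id _).trans (Category.id_comp _).symm
  · change (G ◁ i) ≫ (tr g).top = (tr (i ≫ g)).top ≫ (G ◁ i)
    rw [tr_top, tr_top]
    show (G ◁ i) ≫ lift (fst G W * (snd G W ≫ g)) (snd G W) =
      lift (fst G W' * (snd G W' ≫ i ≫ g)) (snd G W') ≫ (G ◁ i)
    rw [comp_lift, MonObj.comp_mul, whiskerLeft_fst, whiskerLeft_snd_assoc, whiskerLeft_snd, lift_whiskerLeft]

theorem tr_injective {W : Over S} : Function.Injective (tr (G := G) (W := W)) := by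
  intro g g' h
  have h' : (tr g).top = (tr g').top := congrArg (fun t => t.top) h
  rw [tr_top, tr_top] at h'
  have h2 := congrArg (fun t : G ⊗ W ⟶ G ⊗ W => lift (1 : W ⟶ G) (𝟙 W) ≫ t ≫ fst G W) h'
  simpa [MonObj.comp_mul] using h2

theorem exists_eq_tr {W : Over S} (h : trivObj G W ⟶ trivObj G W) (hb : h.base = 𝟙 W) : ∃ g, h = tr g := by
  obtain ⟨g, -, hg⟩ := (exists_quot_hom_over (trivAction G) (𝟙 W) (toUnit W) (toUnit W)).1 h hb
  refine ⟨g, QuotObj.hom_ext (hb.trans (tr_base g).symm) ?_⟩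
  rw [tr_top, hg]
  erw [Category.comp_id]

theorem exists_tr_comp (hX : IsFibGrpd (BGc G).p) {W : Over S} {A : (BGc G).obj} (n n' : trivObj G W ⟶ A)
    (hb : n.base = n'.base) : ∃ g, n = tr g ≫ n' := by
  obtain ⟨χ, h1, h2⟩ := fg_exists_fac hX n' n (𝟙 W) (by
    show 𝟙 W ≫ n'.base = n.base
    rw [hb]; exact Category.id_comp _)
  obtain ⟨g, rfl⟩ := exists_eq_tr χ h1
  exact ⟨g, h2.symm⟩

theorem tr_cancel (hX : IsFibGrpd (BGc G).p) {W : Over S} {A : (BGc G).obj} (n : trivObj G W ⟶ A)
    {g g' : W ⟶ G} (h : tr g ≫ n = tr g' ≫ n) : g = g' :=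
  tr_injective (fg_hom_ext hX n ((tr_base g).trans (tr_base g').symm) h)

variable (G)

/-- The trivial torsors on the objects of a slice. -/
noncomputable def trivFun (C : Over S) : overCat C ⥤ᵇ BGc G where
  toFunctor :=
    { obj := fun q => trivObj G q.left
      map := fun t => trivMap G t.left
      map_id := fun q => trivMap_id G q.left
      map_comp := fun s t => trivMap_comp G s.left t.left }
  w := rfl

variable {G}

/-- The automorphism of the trivial torsors over `O` given by a point. -/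
noncomputable def trIso {O C : Over S} (o : O ⟶ C) (g₀ : O ⟶ G) :
    BasedFunctor.comp (overMap o) (trivFun G C) ≅ BasedFunctor.comp (overMap o) (trivFun G C) :=
  BasedNatIso.mkNatIso
    (NatIso.ofComponents
      (fun r => { hom := tr (r.hom ≫ g₀), inv := tr ((r.hom ≫ g₀)⁻¹),
                  hom_inv_id := by rw [tr_mul, mul_inv_cancel, tr_one]; rfl,
                  inv_hom_id := by rw [tr_mul, inv_mul_cancel, tr_one]; rfl })
      (fun {r r'} t => by
        change trivMap G t.left ≫ tr (r'.hom ≫ g₀) = tr (r.hom ≫ g₀) ≫ trivMap G t.left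
        rw [trivMap_tr, ← Category.assoc, Over.w]))
    (fun r => isHomLift_tr (r.hom ≫ g₀))

theorem isStack_BG (hG : IsAffineHom G.hom) : Stk.IsStack (AlgSp.J S) (BGc G) :=
  AlgSt88.isStack_quotSt Scheme.fppfPrecoverage_le_fpqcPrecoverage hG (trivAction G)

/-- A torsor on a doubled scheme with given transition. -/
theorem exists_twisted_torsor (hG : IsAffineHom G.hom) {O C : Over S} (o : O ⟶ C) [IsOpenImmersion o.left]
    (g₀ : O ⟶ G) {D : Over S} (d : IsoNat97.Doubling o D) :
    ∃ (x : (BGc G).obj) (_ : (BGc G).p.obj x = D) (m : Bool → (trivObj G C ⟶ x)),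
      (∀ b, (BGc G).p.IsHomLift (d.c b) (m b)) ∧
      tr g₀ ≫ trivMap G o ≫ m true = trivMap G o ≫ m false := by
  haveI : Mono o := Over.mono_of_mono_left _
  obtain ⟨x, m, hm, hrel⟩ := IsoNat97.exists_twisted (trivFun G C) d (isStack_BG hG) (trIso o g₀)
  refine ⟨x.1, x.2, m, hm, ?_⟩
  have e1 : tr (𝟙 O ≫ g₀) ≫ trivMap G (𝟙 O ≫ o) ≫ m true = trivMap G (𝟙 O ≫ o) ≫ m false := hrel
  rwa [Category.id_comp, Category.id_comp] at e1

end Groth.Agent.BGaST
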